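import Cfsg.Prelude.Def_GeometricClasses
import Cfsg.Agent.Lib.NonMax.Subspace
import Cfsg.Agent.Lib.LinearFrame.Main
import Cfsg.Agent.Lib.LinExt.Standard
import Cfsg.Agent.Lib.TensorMax.Main
import Cfsg.Agent.Lib.SubfieldMax.LinearSubfield
import Cfsg.Agent.Lib.FormMax.SympInSL
import Cfsg.Agent.Lib.FormMax.UnitaryInSL
import Cfsg.Agent.Lib.FormMax.OrthInSL
import Cfsg.Agent.Lib.Forms.CharTwoPoints

/-!
Geometric maximal subgroups of the special linear group in small fixed degree: the classes assembled.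
-/

set_option autoImplicit false

namespace Cfsg.Agent.Lib.GeoTypesSL

open Cfsg.Agent.Lib.TensorMax

lemma isMaximalIn_map {G H : Type*} [Group G] [Group H] (Φ : G ≃* H) {K L : Subgroup G}
    (h : Cfsg.Geo.IsMaximalIn K L) :
    Cfsg.Geo.IsMaximalIn (K.map Φ.toMonoidHom) (L.map Φ.toMonoidHom) := by
  refine ⟨(Subgroup.map_lt_map_iff_of_injective Φ.injective).2 h.1, fun M hLM hMK => ?_⟩
  have hback : (M.comap Φ.toMonoidHom).map Φ.toMonoidHom = M :=
    Subgroup.map_comap_eq_self_of_surjective Φ.surjective M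
  rcases h.2 (M.comap Φ.toMonoidHom) (fun x hx => hLM ⟨x, hx, rfl⟩)
      (fun x hx => by
        obtain ⟨y, hy, hyx⟩ := hMK hx
        exact Φ.injective hyx ▸ hy) with h' | h'
  · exact Or.inl (by rw [← hback, h'])
  · exact Or.inr (by rw [← hback, h'])

variable {F : Type*} [Field F] [Fintype F]

/-- A tensor decomposition stabiliser with unequal factors. -/
theorem isMaximalIn_tensorProduct {n n₁ n₂ : ℕ} (h1 : 2 ≤ n₁) (h12 : n₁ < n₂) (hb : 3 ≤ n₂)
    (hex : 3 ≤ n₁ ∨ 3 ≤ Fintype.card F) (e : Fin n ≃ Fin n₁ × Fin n₂)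
    (P : Matrix.GeneralLinearGroup (Fin n) F) :
    Cfsg.Geo.IsMaximalIn (Cfsg.Geo.specialLinear (Fin n) F)
      (Cfsg.Geo.tensorProductSubgroup n₁ n₂ e P ⊓ Cfsg.Geo.specialLinear (Fin n) F) := by
  classical
  have hexF : 3 ≤ n₁ ∨ ∃ t : F, t ≠ 0 ∧ t ≠ 1 := by
    rcases hex with h | h
    · exact Or.inl h
    obtain ⟨t, -, ht⟩ := Finset.exists_mem_notMem_of_card_lt_card (s := ({0, 1} : Finset F))
      (t := (Finset.univ : Finset F)) (by rw [Finset.card_pair zero_ne_one, Finset.card_univ]; omega)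
    simp only [Finset.mem_insert, Finset.mem_singleton, not_or] at ht
    exact Or.inr ⟨t, ht.1, ht.2⟩
  let Φ : GL (Fin n₁ × Fin n₂) F ≃* GL (Fin n) F :=
    (Cfsg.Geo.glReindex e.symm).trans (MulAut.conj P)
  have hSL : (Cfsg.Geo.specialLinear (Fin n₁ × Fin n₂) F).map Φ.toMonoidHom =
      Cfsg.Geo.specialLinear (Fin n) F := by
    have hdet : ∀ x, Matrix.GeneralLinearGroup.det (Φ x) = Matrix.GeneralLinearGroup.det x := by
      intro x
      show Matrix.GeneralLinearGroup.det (P * _ * P⁻¹) = _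
      rw [map_mul, map_mul, map_inv, mul_right_comm, mul_inv_cancel, one_mul]
      exact Units.ext (Matrix.det_reindex_self _ _)
    ext g
    refine ⟨?_, fun hg => ⟨Φ.symm g, ?_, Φ.apply_symm_apply g⟩⟩
    · rintro ⟨x, hx, rfl⟩
      show Matrix.GeneralLinearGroup.det (Φ x) = 1
      rw [hdet]
      exact hx
    · show Matrix.GeneralLinearGroup.det (Φ.symm g) = 1
      rw [← hdet, Φ.apply_symm_apply]
      exact hg
  have hK : (tensorSL n₁ n₂ F).map Φ.toMonoidHom =
      Cfsg.Geo.tensorProductSubgroup n₁ n₂ e P ⊓ Cfsg.Geo.specialLinear (Fin n) F := by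
    rw [tensorSL, Subgroup.map_inf _ _ _ Φ.injective, hSL]
    congr 1
    rw [Cfsg.Geo.tensorProductSubgroup, Subgroup.map_map]
    rfl
  have h := isMaximalIn_map Φ (isMaximalIn_tensorSL (F := F) h1 h12 hb hexF)
  rwa [hSL, hK] at h

/-- The similarities of a quadratic form in odd order. -/
theorem isMaximalIn_quad {n : ℕ} (hn : 6 ≤ n) (hodd : Odd (Fintype.card F)) (Q : (Fin n → F) → F)
    (hQ : Cfsg.Geo.IsNondegenerateQuadraticForm Q) :
    Cfsg.Geo.IsMaximalIn (Cfsg.Geo.specialLinear (Fin n) F)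
      (Cfsg.Geo.quadSimilarityGroup Q ⊓ Cfsg.Geo.specialLinear (Fin n) F) := by
  have h2 : (2 : F) ≠ 0 := Ring.two_ne_zero fun h => by
    have h' := FiniteField.even_card_of_char_two h
    obtain ⟨k, hk⟩ := hodd; omega
  exact Cfsg.Agent.Lib.FormMax.OrthSL.isMaximalIn_quadSimilarity
    (Q := Cfsg.Agent.Lib.Forms.bundleQuad Q hQ)
    (Cfsg.Agent.Lib.Forms.nondegenerate_bundleQuad Q hQ) h2 (by simpa using hn)

end Cfsg.Agent.Lib.GeoTypesSL
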